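import Groth.Agent.Etdl.H437.RegPar
import Mathlib.Algebra.MvPolynomial.Equiv
import Mathlib.RingTheory.PowerSeries.Basic

/-!
# `R[X] → R[[X]]` is regular for a G-ring `R`

`isRegularHom_powerSeries`, and the case `R = K[[x_1, …, x_m]]` (`isRegularHom_mvPowerSeries_powerSeries`).
-/

set_option autoImplicit false
universe u

namespace Groth.Agent.Etdl.H437.PolyPow

open IsLocalRing Polynomial Groth.Agent.Ega4C.GeomCompReg

/-- The identity is regular. -/
theorem isRegularHom_self (A : Type u) [CommRing A] [IsNoetherianRing A] : CAlg.IsRegularHom A A :=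
  isRegularHom_of_algEquiv A (MvPolynomial (Fin 0) A) A (MvPolynomial.isEmptyAlgEquiv A (Fin 0))
    (isRegularHom_mvPolynomial A (Fin 0))

/-- Bijective homomorphisms are regular. -/
theorem isRegularHom_of_bijective (A B : Type u) [CommRing A] [CommRing B] [IsNoetherianRing A] [Algebra A B]
    (h : Function.Bijective (algebraMap A B)) : CAlg.IsRegularHom A B :=
  isRegularHom_of_algEquiv A A B (AlgEquiv.ofBijective (Algebra.ofId A B) h) (isRegularHom_self A)

/-- `R[X] → R[[X]]` is regular for a G-ring `R`. -/
theorem isRegularHom_powerSeries (R : Type u) [CommRing R] (hR : CAlg.IsGRing R) :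
    CAlg.IsRegularHom R[X] (PowerSeries R) := by
  have hN : IsNoetherianRing R := hR.1
  let e : R[X] ≃ₐ[R] MvPolynomial Unit R := (MvPolynomial.uniqueAlgEquiv R Unit).symm
  let aPQ : Algebra R[X] (MvPolynomial Unit R) := e.toRingEquiv.toRingHom.toAlgebra
  have hPQ : CAlg.IsRegularHom R[X] (MvPolynomial Unit R) := isRegularHom_of_bijective _ _ e.bijective
  have hQS : CAlg.IsRegularHom (MvPolynomial Unit R) (MvPowerSeries Unit R) :=
    RegPar.isRegularHom_mvPowerSeries R hR Unit
  have hNS : IsNoetherianRing (MvPowerSeries Unit R) := inferInstance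
  have aPS : IsScalarTower R[X] (MvPolynomial Unit R) (PowerSeries R) := by
    refine IsScalarTower.of_algebraMap_eq' (Polynomial.ringHom_ext (fun a => ?_) ?_)
    · have h1 : algebraMap R[X] (PowerSeries R) (Polynomial.C a) = PowerSeries.C a := by
        rw [PowerSeries.algebraMap_apply', Polynomial.coe_C, PowerSeries.map_C]
        rfl
      have h2 : algebraMap R[X] (MvPolynomial Unit R) (Polynomial.C a) = MvPolynomial.C a := by
        change (MvPolynomial.uniqueAlgEquiv R Unit).symm (Polynomial.C a) = _
        rw [AlgEquiv.symm_apply_eq]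
        simp
      have h3 : algebraMap (MvPolynomial Unit R) (PowerSeries R) (MvPolynomial.C a) = PowerSeries.C a := by
        change ((MvPolynomial.C a : MvPolynomial Unit R) : MvPowerSeries Unit R) = _
        rw [MvPolynomial.coe_C]
        rfl
      rw [h1, RingHom.comp_apply, h2, h3]
    · have h1 : algebraMap R[X] (PowerSeries R) Polynomial.X = PowerSeries.X := by
        rw [PowerSeries.algebraMap_apply', Polynomial.coe_X, PowerSeries.map_X]
      have h2 : algebraMap R[X] (MvPolynomial Unit R) Polynomial.X = MvPolynomial.X () := by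
        change (MvPolynomial.uniqueAlgEquiv R Unit).symm Polynomial.X = _
        rw [AlgEquiv.symm_apply_eq]
        simp
      have h3 : algebraMap (MvPolynomial Unit R) (PowerSeries R) (MvPolynomial.X ()) = PowerSeries.X := by
        change ((MvPolynomial.X () : MvPolynomial Unit R) : MvPowerSeries Unit R) = _
        rw [MvPolynomial.coe_X]
        rfl
      rw [h1, RingHom.comp_apply, h2, h3]
  exact isRegularHom_comp R[X] (MvPolynomial Unit R) (PowerSeries R) hPQ hQS

/-- Power series rings over a field are G-rings. -/
theorem isGRing_mvPowerSeries (K : Type u) [Field K] (m : ℕ) : CAlg.IsGRing (MvPowerSeries (Fin m) K) :=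
  have := Groth.Agent.CalgB.PowField.isAdicComplete K m
  Groth.Agent.S0598.result _

/-- `R[X] → R[[X]]` is regular for `R = K[[x_1, …, x_m]]`. -/
theorem isRegularHom_mvPowerSeries_powerSeries (K : Type u) [Field K] (m : ℕ) :
    CAlg.IsRegularHom (MvPowerSeries (Fin m) K)[X] (PowerSeries (MvPowerSeries (Fin m) K)) :=
  isRegularHom_powerSeries _ (isGRing_mvPowerSeries K m)

/-- The algebra structure is the inclusion. -/
theorem algebraMap_eq_coe (R : Type u) [CommRing R] (p : R[X]) :
    algebraMap R[X] (PowerSeries R) p = (p : PowerSeries R) := by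
  rw [PowerSeries.algebraMap_apply', Algebra.algebraMap_self, PowerSeries.map_id]
  rfl

end Groth.Agent.Etdl.H437.PolyPow
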