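import Groth.Agent.Etdl.H436.CoordChange
import Groth.Agent.CalgB.PowField
import Mathlib.RingTheory.PowerSeries.WeierstrassPreparation
import Mathlib.RingTheory.RingHom.Finite
import Mathlib.RingTheory.AdjoinRoot

/-!
# Hypersurfaces in `Spec k[[x_0, …, x_m]]` are finite over `Spec k[[x_1, …, x_m]]`
-/

set_option autoImplicit false
universe u

namespace Groth.Agent.Etdl.H437.WeierQuot

open IsLocalRing Polynomial

/-- For `h ≠ 0` the quotient `K[[x_0, …, x_m]] / (h)` is finite over a power series ring in `m` variables. -/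
theorem exists_finite_quot {m : ℕ} {K : Type u} [Field K] [Infinite K]
    (h : MvPowerSeries (Fin (m + 1)) K) (hh : h ≠ 0) :
    ∃ κ : MvPowerSeries (Fin m) K →+* (MvPowerSeries (Fin (m + 1)) K ⧸ Ideal.span {h}), κ.Finite := by
  obtain ⟨e, he⟩ := Groth.Agent.Etdl.H436.CoordChange.exists_coordChange h hh
  have hcomp := Groth.Agent.CalgB.PowField.isAdicComplete K m
  obtain ⟨f, u, H⟩ := (e h).exists_isWeierstrassFactorization he
  have h1 : Module.Finite (MvPowerSeries (Fin m) K) ((MvPowerSeries (Fin m) K)[X] ⧸ Ideal.span {f}) :=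
    H.isDistinguishedAt.monic.finite_quotient
  have h2 : Module.Finite (MvPowerSeries (Fin m) K) (PowerSeries (MvPowerSeries (Fin m) K) ⧸ Ideal.span {e h}) :=
    Module.Finite.equiv H.algEquivQuotient.toLinearEquiv
  let e2 : (MvPowerSeries (Fin (m + 1)) K ⧸ Ideal.span {h}) ≃+*
      (PowerSeries (MvPowerSeries (Fin m) K) ⧸ Ideal.span {e h}) :=
    Ideal.quotientEquiv _ _ e.toRingEquiv (by rw [Ideal.map_span, Set.image_singleton]; rfl)
  refine ⟨e2.symm.toRingHom.comp (algebraMap (MvPowerSeries (Fin m) K) _), ?_⟩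
  exact RingHom.Finite.comp (RingHom.Finite.of_surjective _ e2.symm.surjective)
    (RingHom.finite_algebraMap.2 h2)

end Groth.Agent.Etdl.H437.WeierQuot
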