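import Mathlib.RingTheory.AdjoinRoot
import Mathlib.RingTheory.Localization.Away.Basic
import Mathlib.Algebra.Category.Ring.Constructions
import Mathlib.CategoryTheory.Limits.Shapes.Pullback.IsPullback.Basic

set_option autoImplicit false
universe u

namespace Groth.Agent.Etdl.H437.ModelPush

open Polynomial CategoryTheory CategoryTheory.Limits

/-- Base change of `R₀[z]/(P₀)` localized at `W`. -/
theorem isPushout_adjoinRoot_away {R₀ A : Type u} [CommRing R₀] [CommRing A] (ρ : R₀ →+* A) (P₀ : R₀[X])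
    (W : R₀) (T : Type u) [CommRing T] [Algebra (AdjoinRoot P₀) T] [Algebra R₀ T]
    [IsScalarTower R₀ (AdjoinRoot P₀) T] [IsLocalization.Away (algebraMap R₀ (AdjoinRoot P₀) W) T]
    (D : Type u) [CommRing D] [Algebra A D] (ψ : AdjoinRoot (P₀.map ρ) →+* D)
    (hψA : ψ.comp (algebraMap A _) = algebraMap A D)
    (hψ : @IsLocalization.Away _ _ (algebraMap A (AdjoinRoot (P₀.map ρ)) (ρ W)) D _ ψ.toAlgebra) :
    ∃ φ : T →+* D,
      IsPushout (CommRingCat.ofHom ρ) (CommRingCat.ofHom (algebraMap R₀ T))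
        (CommRingCat.ofHom (algebraMap A D)) (CommRingCat.ofHom φ) := by
  let _ : Algebra (AdjoinRoot (P₀.map ρ)) D := ψ.toAlgebra
  let j : AdjoinRoot P₀ →+* AdjoinRoot (P₀.map ρ) := AdjoinRoot.map ρ P₀ (P₀.map ρ) dvd_rfl
  have hj : ∀ r, j (algebraMap R₀ _ r) = algebraMap A _ (ρ r) := fun r => AdjoinRoot.map_of ρ P₀ _ _ r
  have hjr : j (AdjoinRoot.root P₀) = AdjoinRoot.root _ := AdjoinRoot.lift_root _
  have hψA' : ∀ a, ψ (algebraMap A _ a) = algebraMap A D a := fun a => DFunLike.congr_fun hψA a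
  have hu : IsUnit (ψ (algebraMap A (AdjoinRoot (P₀.map ρ)) (ρ W))) :=
    IsLocalization.Away.algebraMap_isUnit (S := D) (algebraMap A (AdjoinRoot (P₀.map ρ)) (ρ W))
  have hu' : IsUnit ((ψ.comp j) (algebraMap R₀ (AdjoinRoot P₀) W)) := by
    rw [RingHom.comp_apply, hj]
    exact hu
  let φ : T →+* D := IsLocalization.Away.lift _ hu'
  have hφ : ∀ y, φ (algebraMap (AdjoinRoot P₀) T y) = ψ (j y) := fun y => IsLocalization.Away.lift_eq _ hu' y
  have hφR : ∀ r, φ (algebraMap R₀ T r) = algebraMap A D (ρ r) := fun r => by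
    rw [IsScalarTower.algebraMap_apply R₀ (AdjoinRoot P₀) T, hφ, hj, hψA']
  -- the universal property
  have key : ∀ (X : Type u) [CommRing X] (f : A →+* X) (h : T →+* X),
      (∀ r, f (ρ r) = h (algebraMap R₀ T r)) →
      ∃ d : D →+* X, (∀ a, d (algebraMap A D a) = f a) ∧ (∀ t, d (φ t) = h t) := by
    intro X _ f h hfh
    let l : AdjoinRoot (P₀.map ρ) →+* X := AdjoinRoot.lift f (h (algebraMap (AdjoinRoot P₀) T (AdjoinRoot.root P₀)))
      (by
        rw [eval₂_map]
        have h1 : f.comp ρ = (h.comp (algebraMap (AdjoinRoot P₀) T)).comp (algebraMap R₀ (AdjoinRoot P₀)) := by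
          ext r
          rw [RingHom.comp_apply, hfh, RingHom.comp_apply, RingHom.comp_apply,
            ← IsScalarTower.algebraMap_apply R₀ (AdjoinRoot P₀) T]
        rw [h1, ← RingHom.comp_apply, ← Polynomial.hom_eval₂]
        have h2 : eval₂ (algebraMap R₀ (AdjoinRoot P₀)) (AdjoinRoot.root P₀) P₀ = 0 := AdjoinRoot.eval₂_root P₀
        rw [h2, map_zero])
    have hlA : ∀ a, l (algebraMap A _ a) = f a := fun a => AdjoinRoot.lift_of _
    have hlr : l (AdjoinRoot.root _) = h (algebraMap (AdjoinRoot P₀) T (AdjoinRoot.root P₀)) := AdjoinRoot.lift_root _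
    have hlj : l.comp j = h.comp (algebraMap (AdjoinRoot P₀) T) := by
      refine AdjoinRoot.ringHom_ext ?_ ?_
      · ext r
        change l (j (algebraMap R₀ _ r)) = h (algebraMap (AdjoinRoot P₀) T (algebraMap R₀ _ r))
        rw [hj, hlA, hfh, ← IsScalarTower.algebraMap_apply R₀ (AdjoinRoot P₀) T]
      · rw [RingHom.comp_apply, RingHom.comp_apply, hjr, hlr]
    have hlu : IsUnit (l (algebraMap A (AdjoinRoot (P₀.map ρ)) (ρ W))) := by
      rw [hlA, hfh, IsScalarTower.algebraMap_apply R₀ (AdjoinRoot P₀) T]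
      exact (IsLocalization.Away.algebraMap_isUnit (S := T) (algebraMap R₀ (AdjoinRoot P₀) W)).map h
    let d : D →+* X := IsLocalization.Away.lift _ hlu
    have hd : ∀ y, d (ψ y) = l y := fun y => IsLocalization.Away.lift_eq _ hlu y
    refine ⟨d, fun a => by rw [← hψA', hd, hlA], fun t => ?_⟩
    have h3 : d.comp φ = h := by
      refine IsLocalization.ringHom_ext (Submonoid.powers (algebraMap R₀ (AdjoinRoot P₀) W)) ?_
      refine RingHom.ext fun y => ?_
      change d (φ (algebraMap (AdjoinRoot P₀) T y)) = h (algebraMap (AdjoinRoot P₀) T y)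
      rw [hφ, hd]
      exact DFunLike.congr_fun hlj y
    exact DFunLike.congr_fun h3 t
  have uniq : ∀ (X : Type u) [CommRing X] (d d' : D →+* X), (∀ a, d (algebraMap A D a) = d' (algebraMap A D a)) →
      (∀ t, d (φ t) = d' (φ t)) → d = d' := by
    intro X _ d d' h1 h2
    refine IsLocalization.ringHom_ext (Submonoid.powers (algebraMap A (AdjoinRoot (P₀.map ρ)) (ρ W))) ?_
    refine AdjoinRoot.ringHom_ext ?_ ?_
    · ext a
      have := h1 a
      rw [← hψA'] at this
      exact this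
    · have := h2 (algebraMap (AdjoinRoot P₀) T (AdjoinRoot.root P₀))
      rw [hφ, hjr] at this
      exact this
  have hc : ∀ (s : PushoutCocone (CommRingCat.ofHom ρ) (CommRingCat.ofHom (algebraMap R₀ T))) (r : R₀),
      s.inl.hom (ρ r) = s.inr.hom (algebraMap R₀ T r) := fun s r =>
    DFunLike.congr_fun (congrArg CommRingCat.Hom.hom s.condition) r
  refine ⟨φ, ⟨⟨?_⟩, ⟨PushoutCocone.IsColimit.mk _
    (fun s => CommRingCat.ofHom (key s.pt s.inl.hom s.inr.hom (hc s)).choose) (fun s => ?_) (fun s => ?_)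
    (fun s m h1 h2 => ?_)⟩⟩⟩
  · ext r
    exact (hφR r).symm
  · ext a
    exact (key s.pt s.inl.hom s.inr.hom (hc s)).choose_spec.1 a
  · ext t
    exact (key s.pt s.inl.hom s.inr.hom (hc s)).choose_spec.2 t
  · have h3 : m.hom = (key s.pt s.inl.hom s.inr.hom (hc s)).choose := by
      refine uniq s.pt m.hom _ (fun a => ?_) (fun t => ?_)
      · rw [(key s.pt s.inl.hom s.inr.hom (hc s)).choose_spec.1 a]
        exact DFunLike.congr_fun (congrArg CommRingCat.Hom.hom h1) a
      · rw [(key s.pt s.inl.hom s.inr.hom (hc s)).choose_spec.2 t]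
        exact DFunLike.congr_fun (congrArg CommRingCat.Hom.hom h2) t
    exact CommRingCat.hom_ext h3

end Groth.Agent.Etdl.H437.ModelPush
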