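import Groth.Agent.Etdl.H437.ModelGen
import Groth.Agent.Etdl.H437.ModelPush
import Groth.Agent.Etdl.H437.PolyPow
import Groth.Agent.Etdl.H436.CoordChange
import Groth.Agent.Etdl.H436.Approx
import Groth.Agent.UnramA.PowerSeriesNormal
import Groth.Agent.CalgB.PowField

/-!
# Algebraization of generically finite algebras over power series rings

`A = K[[x_0, …, x_m]]`, `g ≠ 0`, `C` a domain finite over `A[1/g]` containing `A`: for some multiple `w ≠ 0` of
`g` the algebra `C[1/w]` is the base change along a regular homomorphism `ρ : K[[x_1, …, x_m]][X] → A` of a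
finite type algebra (`exists_square`).
-/

set_option autoImplicit false
universe u

namespace Groth.Agent.Etdl.H437.ModelSq

open Polynomial IsLocalRing CategoryTheory CategoryTheory.Limits

/-- `A[θ] → C[1/w]` is a localization at `w`. -/
theorem isLocalization_away {A : Type u} [CommRing A] [IsDomain A] [IsIntegrallyClosed A]
    {C : Type u} [CommRing C] [IsDomain C] [Algebra A C] [FaithfulSMul A C] (θ : C) (hθ : IsIntegral A θ)
    (w : A) (hw : w ≠ 0) (hk : ∀ c : C, ∃ k : ℕ, w ^ k • c ∈ Algebra.adjoin A {θ})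
    (D : Type u) [CommRing D] [Algebra C D] [IsLocalization.Away (algebraMap A C w) D]
    (B : Type u) [CommRing B] [Algebra A B] (κ : B ≃ₐ[A] AdjoinRoot (minpoly A θ)) :
    ∃ ψ : B →+* D, ψ.comp (algebraMap A B) = (algebraMap C D).comp (algebraMap A C) ∧
      @IsLocalization.Away _ _ (algebraMap A B w) D _ ψ.toAlgebra := by
  let ψ₀ : B →ₐ[A] C :=
    ((Algebra.adjoin A {θ}).val.comp ((minpoly.equivAdjoin hθ).toAlgHom)).comp κ.toAlgHom
  have hψ₀ : Function.Injective ψ₀ :=
    Subtype.val_injective.comp ((minpoly.equivAdjoin hθ).injective.comp κ.injective)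
  have hψ₀' : ∀ c ∈ Algebra.adjoin A {θ}, ∃ b, ψ₀ b = c := by
    intro c hc
    refine ⟨κ.symm ((minpoly.equivAdjoin hθ).symm ⟨c, hc⟩), ?_⟩
    change ((minpoly.equivAdjoin hθ (κ (κ.symm ((minpoly.equivAdjoin hθ).symm ⟨c, hc⟩))) : Algebra.adjoin A {θ}) : C) = c
    rw [AlgEquiv.apply_symm_apply, AlgEquiv.apply_symm_apply]
  have hwC : algebraMap A C w ≠ 0 := by
    rw [Ne, map_eq_zero_iff _ (FaithfulSMul.algebraMap_injective A C)]
    exact hw
  have hCD : Function.Injective (algebraMap C D) :=
    IsLocalization.injective D (powers_le_nonZeroDivisors_of_noZeroDivisors hwC)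
  refine ⟨(algebraMap C D).comp ψ₀.toRingHom, ?_, ?_⟩
  · ext a
    change algebraMap C D (ψ₀ (algebraMap A B a)) = algebraMap C D (algebraMap A C a)
    rw [AlgHom.commutes]
  · let _ : Algebra B D := ((algebraMap C D).comp ψ₀.toRingHom).toAlgebra
    have hBD : ∀ b, algebraMap B D b = algebraMap C D (ψ₀ b) := fun b => rfl
    have hww : algebraMap B D (algebraMap A B w) = algebraMap C D (algebraMap A C w) := by
      rw [hBD, AlgHom.commutes]
    refine IsLocalization.Away.mk _ ?_ (fun s => ?_) (fun a b hab => ⟨0, ?_⟩)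
    · rw [hww]
      exact IsLocalization.Away.algebraMap_isUnit _
    · obtain ⟨n, c, hc⟩ := IsLocalization.Away.surj (algebraMap A C w) s
      obtain ⟨k, hk⟩ := hk c
      obtain ⟨b, hb⟩ := hψ₀' _ hk
      refine ⟨n + k, b, ?_⟩
      rw [hww, pow_add, ← mul_assoc, hc, hBD, hb, Algebra.smul_def, map_mul, map_pow, map_pow, mul_comm]
    · rw [pow_zero, one_mul, one_mul]
      exact hψ₀ (hCD hab)

/-- **Algebraization.** -/
theorem exists_square {m : ℕ} {K : Type u} [Field K] [CharZero K] (g : MvPowerSeries (Fin (m + 1)) K)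
    (hg : g ≠ 0) (C : Type u) [CommRing C] [IsDomain C] [Algebra (MvPowerSeries (Fin (m + 1)) K) C]
    [Algebra (Localization.Away g) C] [IsScalarTower (MvPowerSeries (Fin (m + 1)) K) (Localization.Away g) C]
    [Module.Finite (Localization.Away g) C]
    (hinj : Function.Injective (algebraMap (MvPowerSeries (Fin (m + 1)) K) C)) :
    ∃ (w : MvPowerSeries (Fin (m + 1)) K) (_ : w ≠ 0) (_ : g ∣ w)
      (ρ : Polynomial (MvPowerSeries (Fin m) K) →+* MvPowerSeries (Fin (m + 1)) K)
      (_ : @CAlg.IsRegularHom _ _ _ _ ρ.toAlgebra) (T : Type u) (_ : CommRing T)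
      (τ : Polynomial (MvPowerSeries (Fin m) K) →+* T) (_ : τ.FiniteType)
      (φ : T →+* Localization.Away (algebraMap (MvPowerSeries (Fin (m + 1)) K) C w)),
      IsPushout (CommRingCat.ofHom ρ) (CommRingCat.ofHom τ)
        (CommRingCat.ofHom (algebraMap (MvPowerSeries (Fin (m + 1)) K)
          (Localization.Away (algebraMap (MvPowerSeries (Fin (m + 1)) K) C w)))) (CommRingCat.ofHom φ) := by
  classical
  let A := MvPowerSeries (Fin (m + 1)) K
  let R := MvPowerSeries (Fin m) K
  obtain ⟨hAdom, hAic⟩ := Groth.Agent.UnramA.PowerSeriesNormal.isIntegrallyClosed_mvPowerSeries K (m + 1)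
  have hRcomp := Groth.Agent.CalgB.PowField.isAdicComplete K m
  have hAcomp := Groth.Agent.CalgB.PowField.isAdicComplete K (m + 1)
  have hA0 : CharZero A := charZero_of_injective_algebraMap (algebraMap K A).injective
  have : FaithfulSMul A C := (faithfulSMul_iff_algebraMap_injective A C).2 hinj
  have hgnz : Submonoid.powers g ≤ nonZeroDivisors A := powers_le_nonZeroDivisors_of_noZeroDivisors hg
  have : IsDomain (Localization.Away g) := IsLocalization.isDomain_localization hgnz
  have : Algebra.IsAlgebraic A (Localization.Away g) := IsLocalization.isAlgebraic _ (Submonoid.powers g)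
  have halg : Algebra.IsAlgebraic A C := Algebra.IsAlgebraic.trans A (Localization.Away g) C
  obtain ⟨t, ht⟩ := ModelGen.exists_gens g C
  have hX : (MvPowerSeries.X 0 : A) ≠ 0 := fun h0 => by
    have h1 := congrArg (MvPowerSeries.coeff (Finsupp.single 0 1)) h0
    rw [MvPowerSeries.coeff_index_single_self_X, map_zero] at h1
    exact one_ne_zero h1
  have hinf : Infinite K := Infinite.of_injective ((↑) : ℕ → K) Nat.cast_injective
  obtain ⟨θ, a, b, w, hθ, hw0, hgw, hab, hk⟩ :=
    ModelGen.exists_smul_mem_adjoin t g hg ht (MvPowerSeries.X 0 : A) hX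
  have hwm : w ∈ maximalIdeal A := by
    have h1 : (MvPowerSeries.X 0 : A) ∈ maximalIdeal A := by
      rw [mem_maximalIdeal, mem_nonunits_iff, MvPowerSeries.isUnit_iff_constantCoeff,
        MvPowerSeries.constantCoeff_X]
      exact not_isUnit_zero
    exact Ideal.mem_of_dvd _ ((dvd_mul_left _ _).trans hgw) h1
  obtain ⟨e, he⟩ := Groth.Agent.Etdl.H436.CoordChange.exists_coordChange w hw0
  obtain ⟨W, u, H⟩ := (e w).exists_isWeierstrassFactorization he
  obtain ⟨P₀, S, hP₀, hdeg, hP⟩ := Groth.Agent.Etdl.H436.Approx.exists_monic_approx (e w) he 3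
    ((minpoly A θ).map (e : A →+* PowerSeries R)) ((minpoly.monic hθ).map _)
  let ρ : R[X] →+* A := (e.symm : PowerSeries R →+* A).comp (algebraMap R[X] (PowerSeries R))
  have hesymm : ((e.symm : PowerSeries R →+* A)).comp (e : A →+* PowerSeries R) = RingHom.id A := by
    ext1 x
    exact e.symm_apply_apply x
  have hρP : P₀.map ρ = minpoly A θ + Polynomial.C (w ^ 3) * S.map (e.symm : PowerSeries R →+* A) := by
    have h1 := congrArg (Polynomial.map (e.symm : PowerSeries R →+* A)) hP
    rw [Polynomial.map_map, Polynomial.map_add, Polynomial.map_map, hesymm, Polynomial.map_id, Polynomial.map_mul,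
      Polynomial.map_C, map_pow] at h1
    rw [h1]
    congr 3
    exact congrArg (· ^ 3) (e.symm_apply_apply w)
  have hdeg' : (P₀.map ρ).natDegree = (minpoly A θ).natDegree := by
    rw [hP₀.natDegree_map, hdeg, (minpoly.monic hθ).natDegree_map]
  obtain ⟨κ⟩ := Groth.Agent.Etdl.H436.Krasner.nonempty_algEquiv w hwm (minpoly A θ) (P₀.map ρ)
    (S.map (e.symm : PowerSeries R →+* A)) a b (minpoly.monic hθ) (hP₀.map _) hdeg' hab hρP
  let D := Localization.Away (algebraMap A C w)
  obtain ⟨ψ, hψ1, hψ2⟩ := isLocalization_away θ hθ w hw0 hk D _ κ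
  have hψ1' : ψ.comp (algebraMap A _) = algebraMap A D := by
    rw [hψ1]
    exact (IsScalarTower.algebraMap_eq A C D).symm
  -- `w` and `ρ W` are associated
  have hass : Associated w (ρ W) := by
    have h1 : w = ρ W * e.symm u := by
      have h2 := congrArg e.symm H.eq_mul
      rw [e.symm_apply_apply, map_mul] at h2
      rw [h2]
      exact congrArg (· * e.symm u) (congrArg e.symm (PolyPow.algebraMap_eq_coe R W).symm)
    have h3 : IsUnit (e.symm u) := H.isUnit.map e.symm
    rw [h1]
    exact associated_mul_unit_left _ _ h3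
  have hψ3 : @IsLocalization.Away _ _ (algebraMap A (AdjoinRoot (P₀.map ρ)) (ρ W)) D _ ψ.toAlgebra := by
    let _ := ψ.toAlgebra
    exact IsLocalization.Away.of_associated (hass.map (algebraMap A (AdjoinRoot (P₀.map ρ))))
  let T := Localization.Away (algebraMap R[X] (AdjoinRoot P₀) W)
  obtain ⟨φ, hφ⟩ := ModelPush.isPushout_adjoinRoot_away ρ P₀ W T D ψ hψ1' hψ3
  refine ⟨w, hw0, (dvd_mul_right _ _).trans hgw, ρ, ?_, T, inferInstance, algebraMap R[X] T, ?_, φ, hφ⟩
  · let _ : Algebra R[X] A := ρ.toAlgebra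
    refine Groth.Agent.Ega4C.GeomCompReg.isRegularHom_of_algEquiv R[X] (PowerSeries R) A
      { e.symm.toRingEquiv with commutes' := fun r => rfl } (PolyPow.isRegularHom_mvPowerSeries_powerSeries K m)
  · have h1 : Algebra.FiniteType R[X] (AdjoinRoot P₀) := inferInstance
    have h2 : Algebra.FiniteType (AdjoinRoot P₀) T :=
      IsLocalization.finiteType_of_monoid_fg (Submonoid.powers (algebraMap R[X] (AdjoinRoot P₀) W)) _
    have h3 : Algebra.FiniteType R[X] T := Algebra.FiniteType.trans h1 h2
    exact RingHom.finiteType_algebraMap.2 h3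

end Groth.Agent.Etdl.H437.ModelSq
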