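import Mathlib.AlgebraicGeometry.Pullbacks
import Mathlib.Algebra.Category.Ring.Constructions
import Mathlib.Algebra.Polynomial.AlgebraMap
import Mathlib.RingTheory.TensorProduct.Basic
import Mathlib.RingTheory.Localization.Away.Basic

/-!
# Charts with fewer generators over `R[X] → R'`

* `exists_chart` : if `B` is generated over `R` by `t_0, …, t_N` and `R[X] → R'` is a homomorphism, then
  `B ⊗_{R[X], X ↦ t_b} R'` is generated over `R'` by `N` elements.
-/

set_option autoImplicit false
universe u

open CategoryTheory CategoryTheory.Limits AlgebraicGeometry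
open scoped TensorProduct Polynomial

namespace Groth.Agent.Etdl.H437.ChartAlg

section Algebra

variable (P S B : Type u) [CommRing P] [CommRing S] [CommRing B] [Algebra P S] [Algebra P B]

attribute [local instance] Algebra.TensorProduct.rightAlgebra

theorem tmul_one_eq (p : P) :
    (algebraMap P B p) ⊗ₜ[P] (1 : S) = algebraMap S (B ⊗[P] S) (algebraMap P S p) := by
  rw [Algebra.algebraMap_eq_smul_one, TensorProduct.smul_tmul, ← Algebra.algebraMap_eq_smul_one]
  rfl

theorem adjoin_eq_top {R : Type u} [CommRing R] [Algebra R B] (c : R →+* P)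
    (hc : (algebraMap P B).comp c = algebraMap R B) {N : ℕ} (t : Fin (N + 1) → B)
    (ht : Algebra.adjoin R (Set.range t) = ⊤) (b : Fin (N + 1)) (x : P)
    (hx : algebraMap P B x = t b) :
    Algebra.adjoin S (Set.range fun i : Fin N => (t (b.succAbove i)) ⊗ₜ[P] (1 : S)) = ⊤ := by
  set A := Algebra.adjoin S (Set.range fun i : Fin N => (t (b.succAbove i)) ⊗ₜ[P] (1 : S)) with hA
  have key : ∀ b0 : B, b0 ⊗ₜ[P] (1 : S) ∈ A := by
    intro b0
    have hb0 : b0 ∈ Algebra.adjoin R (Set.range t) := ht ▸ Algebra.mem_top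
    induction hb0 using Algebra.adjoin_induction with
    | mem y hy =>
      obtain ⟨j, rfl⟩ := hy
      by_cases hj : j = b
      · subst hj
        rw [← hx, tmul_one_eq]
        exact A.algebraMap_mem _
      · obtain ⟨i, rfl⟩ := Fin.exists_succAbove_eq hj
        exact Algebra.subset_adjoin ⟨i, rfl⟩
    | algebraMap r =>
      rw [← hc, RingHom.comp_apply, tmul_one_eq]
      exact A.algebraMap_mem _
    | add y z _ _ h1 h2 =>
      rw [TensorProduct.add_tmul]
      exact A.add_mem h1 h2
    | mul y z _ _ h1 h2 =>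
      have : (y * z) ⊗ₜ[P] (1 : S) = (y ⊗ₜ[P] (1 : S)) * (z ⊗ₜ[P] (1 : S)) := by
        rw [Algebra.TensorProduct.tmul_mul_tmul, one_mul]
      rw [this]
      exact A.mul_mem h1 h2
  rw [eq_top_iff]
  rintro y -
  induction y using TensorProduct.induction_on with
  | zero => exact A.zero_mem
  | tmul b0 s0 =>
    have : b0 ⊗ₜ[P] s0 = algebraMap S (B ⊗[P] S) s0 * (b0 ⊗ₜ[P] (1 : S)) := by
      change _ = ((1 : B) ⊗ₜ[P] s0) * (b0 ⊗ₜ[P] (1 : S))
      rw [Algebra.TensorProduct.tmul_mul_tmul, one_mul, mul_one]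
    rw [this]
    exact A.mul_mem (A.algebraMap_mem _) (key b0)
  | add y z h1 h2 => exact A.add_mem h1 h2

end Algebra

/-- The base change of a chart along `ρ : R[X] → R'`, `X ↦ t_b`, has one generator less. -/
theorem exists_chart {R R' B : Type u} [CommRing R] [CommRing R'] [CommRing B] [Algebra R B]
    (ρ : R[X] →+* R') {N : ℕ} (t : Fin (N + 1) → B) (ht : Algebra.adjoin R (Set.range t) = ⊤)
    (b : Fin (N + 1)) :
    ∃ (A' : Type u) (_ : CommRing A') (_ : Algebra R' A') (s : Fin N → A')
      (_ : Algebra.adjoin R' (Set.range s) = ⊤) (γ : B →+* A'),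
      IsPullback (Spec.map (CommRingCat.ofHom γ)) (Spec.map (CommRingCat.ofHom (algebraMap R' A')))
        (Spec.map (CommRingCat.ofHom ((Polynomial.aeval (R := R) (t b)).toRingHom)))
        (Spec.map (CommRingCat.ofHom ρ)) := by
  let i1 : Algebra R[X] B := (Polynomial.aeval (R := R) (t b)).toRingHom.toAlgebra
  let i2 : Algebra R[X] R' := ρ.toAlgebra
  let i3 : Algebra R' (B ⊗[R[X]] R') := Algebra.TensorProduct.rightAlgebra
  have hc : (algebraMap R[X] B).comp Polynomial.C = algebraMap R B := by
    ext r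
    exact Polynomial.aeval_C (t b) r
  have hx : algebraMap R[X] B Polynomial.X = t b := Polynomial.aeval_X (t b)
  refine ⟨B ⊗[R[X]] R', inferInstance, i3, fun i => (t (b.succAbove i)) ⊗ₜ[R[X]] (1 : R'),
    adjoin_eq_top R[X] R' B Polynomial.C hc t ht b Polynomial.X hx,
    Algebra.TensorProduct.includeLeftRingHom, ?_⟩
  exact isPullback_SpecMap_of_isPushout _ _ _ _ (CommRingCat.isPushout_tensorProduct R[X] B R')

end Groth.Agent.Etdl.H437.ChartAlg
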