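import Mathlib.RingTheory.Ideal.GoingDown
import Mathlib.RingTheory.Flat.TorsionFree
import Mathlib.RingTheory.RingHom.Flat
import Mathlib.RingTheory.LocalRing.MaximalIdeal.Basic

/-!
# Flat homomorphisms to a local ring

* `exists_comap_eq` : primes contained in the contraction of the maximal ideal are contractions.
* `injective_of_flat` : a flat homomorphism from a domain to a nonzero ring is injective.
-/

set_option autoImplicit false

open IsLocalRing

namespace Groth.Agent.Etdl.H437.FlatLoc

variable {R S : Type*} [CommRing R] [CommRing S] (ρ : R →+* S)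

/-- Primes contained in the contraction of the maximal ideal of a flat local algebra are contractions. -/
theorem exists_comap_eq [IsLocalRing S] (hρ : ρ.Flat) (w : Ideal R) [w.IsPrime]
    (h : w ≤ (maximalIdeal S).comap ρ) : ∃ P : PrimeSpectrum S, P.asIdeal.comap ρ = w := by
  let _ : Algebra R S := ρ.toAlgebra
  have : Module.Flat R S := hρ
  have hp : ((maximalIdeal S).comap ρ).IsPrime := Ideal.IsPrime.comap ρ
  have : (maximalIdeal S).LiesOver ((maximalIdeal S).comap ρ) := ⟨rfl⟩
  obtain ⟨P, -, hP, hw⟩ := Ideal.exists_ideal_le_liesOver_of_le (R := R) (maximalIdeal S) h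
  exact ⟨⟨P, hP⟩, hw.over.symm⟩

/-- A flat homomorphism from a domain to a nonzero ring is injective. -/
theorem injective_of_flat [IsDomain R] [Nontrivial S] (hρ : ρ.Flat) : Function.Injective ρ := by
  let _ : Algebra R S := ρ.toAlgebra
  have : Module.Flat R S := hρ
  have : Module.IsTorsionFree R S := inferInstance
  exact FaithfulSMul.algebraMap_injective R S

end Groth.Agent.Etdl.H437.FlatLoc
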