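import Groth.Agent.Ega4C.GeomCompReg
import Groth.Agent.S0598
import Groth.Agent.S0599
import Groth.Agent.S0600
import Groth.Agent.CalgA.PowSurj
import Groth.Agent.CalgB.PowField
import Mathlib.RingTheory.MvPowerSeries.Rename

/-!
# Regular systems of parameters of power series rings and regular homomorphisms

For a field `k`, `A = k[[x_1, …, x_m]]` and `y_1, …, y_c ∈ A` with `A / (y)` regular local of dimension `m - c`,
the homomorphism `k[Y_1, …, Y_c] → A`, `Y_i ↦ y_i`, is regular (`isRegularHom_aeval`).
-/

set_option autoImplicit false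
universe u

namespace Groth.Agent.Etdl.H437.RegPar

open IsLocalRing

/-- A surjective endomorphism of a Noetherian ring is injective. -/
theorem injective_of_surjective_ringEnd {A : Type*} [CommRing A] [IsNoetherianRing A] (f : A →+* A)
    (hf : Function.Surjective f) : Function.Injective f := by
  have hsurj : ∀ n : ℕ, Function.Surjective (f ^ n : A →+* A) := by
    intro n
    rw [RingHom.coe_pow]
    exact hf.iterate n
  have hmono : Monotone fun n : ℕ => RingHom.ker (f ^ n : A →+* A) := by
    refine monotone_nat_of_le_succ fun n x hx => ?_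
    rw [RingHom.mem_ker] at hx ⊢
    rw [pow_succ', RingHom.coe_mul, Function.comp_apply, hx, map_zero]
  obtain ⟨n, hn⟩ := monotone_stabilizes_iff_noetherian.2 ‹IsNoetherianRing A› ⟨_, hmono⟩
  have h1 : RingHom.ker (f ^ n : A →+* A) = RingHom.ker (f ^ (n + 1) : A →+* A) :=
    hn (n + 1) (Nat.le_succ n)
  rw [injective_iff_map_eq_zero]
  intro x hx
  obtain ⟨y, rfl⟩ := hsurj n x
  have h2 : y ∈ RingHom.ker (f ^ (n + 1) : A →+* A) := by
    rw [RingHom.mem_ker, pow_succ', RingHom.coe_mul, Function.comp_apply, hx]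
  rw [← h1] at h2
  exact h2

/-- Fields are G-rings. -/
theorem isGRing_field (k : Type u) [Field k] : CAlg.IsGRing k :=
  have : IsAdicComplete (maximalIdeal k) k := by
    rw [IsLocalRing.maximalIdeal_eq_bot]
    infer_instance
  Groth.Agent.S0598.result k

/-- `R[X_1, …, X_m] → R[[X_1, …, X_m]]` is regular for a G-ring `R`. -/
theorem isRegularHom_mvPowerSeries (R : Type u) [CommRing R] (hR : CAlg.IsGRing R) (σ : Type) [Finite σ] :
    CAlg.IsRegularHom (MvPolynomial σ R) (MvPowerSeries σ R) := by
  have hN : IsNoetherianRing R := hR.1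
  have h1 : CAlg.IsGRing (MvPolynomial σ R) := Groth.Agent.S0599.result R hR _
  exact Groth.Agent.Ega4C.GeomCompReg.isRegularHom_of_algEquiv _ _ _
    (MvPowerSeries.toAdicCompletionAlgEquiv σ R).symm
    (Groth.Agent.S0600.result (MvPolynomial σ R) h1 (MvPolynomial.idealOfVars σ R))

/-- Completing `y` to a regular system of parameters. -/
theorem exists_parameters (A : Type*) [CommRing A] [IsRegularLocalRing A] (c : ℕ) (y : Fin c → A)
    (hreg : IsRegularLocalRing (A ⧸ Ideal.span (Set.range y))) (d : ℕ)
    (hd : ringKrullDim (A ⧸ Ideal.span (Set.range y)) = d) :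
    ∃ t : Fin d ⊕ Fin c → A, (∀ i, t (Sum.inr i) = y i) ∧
      Ideal.span (Set.range t) = maximalIdeal A := by
  set J := Ideal.span (Set.range y) with hJ
  have h1 : (maximalIdeal (A ⧸ J)).spanFinrank = d := by
    have := IsRegularLocalRing.spanFinrank_maximalIdeal (R := A ⧸ J)
    rw [hd] at this
    exact_mod_cast this
  have hfg : (maximalIdeal (A ⧸ J)).FG := IsNoetherian.noetherian _
  have hcard : (maximalIdeal (A ⧸ J)).generators.ncard = d := by
    rw [Submodule.FG.generators_ncard hfg, h1]
  have hfin := Submodule.FG.finite_generators hfg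
  let e : Fin d ≃ (maximalIdeal (A ⧸ J)).generators := by
    have := hfin.fintype
    refine (Fintype.equivFinOfCardEq ?_).symm
    rw [← hcard, Set.ncard_eq_toFinset_card', Set.toFinset_card]
  choose z hz using fun i : Fin d => Ideal.Quotient.mk_surjective (e i : A ⧸ J)
  refine ⟨Sum.elim z y, fun i => rfl, ?_⟩
  have hJm : J ≤ maximalIdeal A := le_maximalIdeal fun h => by
    have : Subsingleton (A ⧸ J) := Ideal.Quotient.subsingleton_iff.2 h
    exact not_subsingleton (A ⧸ J) this
  have hcomap : (maximalIdeal (A ⧸ J)).comap (Ideal.Quotient.mk J) = maximalIdeal A :=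
    ((local_hom_TFAE (Ideal.Quotient.mk J)).out 0 4).1
      (IsLocalHom.of_surjective _ Ideal.Quotient.mk_surjective)
  have hmap : (Ideal.span (Set.range z)).map (Ideal.Quotient.mk J) = maximalIdeal (A ⧸ J) := by
    rw [Ideal.map_span, ← Set.range_comp]
    have : Set.range (Ideal.Quotient.mk J ∘ z) = (maximalIdeal (A ⧸ J)).generators := by
      ext w
      constructor
      · rintro ⟨i, rfl⟩
        rw [Function.comp_apply, hz]
        exact (e i).2
      · intro hw
        obtain ⟨i, hi⟩ := e.surjective ⟨w, hw⟩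
        exact ⟨i, by rw [Function.comp_apply, hz, hi]⟩
    rw [this]
    exact Submodule.span_generators _
  rw [Set.Sum.elim_range, Ideal.span_union, ← hcomap, ← hmap,
    Ideal.comap_map_of_surjective _ Ideal.Quotient.mk_surjective, ← RingHom.ker_eq_comap_bot,
    Ideal.mk_ker]

section Main

variable (k : Type u) [Field k]

/-- A power series ring with a chosen regular system of parameters is a power series ring on these. -/
theorem exists_algEquiv {m d c : ℕ} (hm : d + c = m) (t : Fin d ⊕ Fin c → MvPowerSeries (Fin m) k)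
    (ht : Ideal.span (Set.range t) = maximalIdeal (MvPowerSeries (Fin m) k)) :
    ∃ e : MvPowerSeries (Fin d ⊕ Fin c) k ≃ₐ[k] MvPowerSeries (Fin m) k,
      ∀ f : MvPolynomial (Fin d ⊕ Fin c) k, e (f : MvPowerSeries _ k) = MvPolynomial.aeval t f := by
  have hcomp := Groth.Agent.CalgB.PowField.isAdicComplete k m
  have hx : ∀ i, t i ∈ maximalIdeal (MvPowerSeries (Fin m) k) := fun i => by
    rw [← ht]
    exact Ideal.subset_span ⟨i, rfl⟩
  let w := Groth.Agent.Ega41.PowEval.powEval (R := k) (maximalIdeal (MvPowerSeries (Fin m) k)) t hx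
  have hw : Function.Surjective w := by
    refine Groth.Agent.CalgA.PowSurj.surjective_powEval _ (fun r => ?_) t hx ht
    refine ⟨MvPowerSeries.constantCoeff r, ?_⟩
    rw [mem_maximalIdeal, mem_nonunits_iff, MvPowerSeries.isUnit_iff_constantCoeff,
      isUnit_iff_ne_zero, not_not, map_sub, sub_eq_zero]
    exact (MvPowerSeries.constantCoeff_C _).symm
  let ρ : MvPowerSeries (Fin d ⊕ Fin c) k ≃ₐ[k] MvPowerSeries (Fin m) k :=
    MvPowerSeries.renameEquiv k (finSumFinEquiv.trans (finCongr hm))
  have hinj : Function.Injective w := by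
    have h1 : Function.Surjective (w.toRingHom.comp ρ.symm.toAlgHom.toRingHom) :=
      hw.comp ρ.symm.surjective
    have h2 := injective_of_surjective_ringEnd _ h1
    intro a b hab
    have h3 : ρ a = ρ b := by
      apply h2
      change w (ρ.symm (ρ a)) = w (ρ.symm (ρ b))
      rw [AlgEquiv.symm_apply_apply, AlgEquiv.symm_apply_apply, hab]
    exact ρ.injective h3
  refine ⟨AlgEquiv.ofBijective w ⟨hinj, hw⟩, fun f => ?_⟩
  exact Groth.Agent.Ega41.PowEval.powEval_coe _ t hx f

/-- `k[Y_1, …, Y_c] → A`, `Y_i ↦ y_i` is regular for `A` a power series ring and `y` part of a regular system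
of parameters. -/
theorem isRegularHom_of_ringHom {m c : ℕ} (A : Type u) [CommRing A] (ε : MvPowerSeries (Fin m) k ≃+* A)
    (y : Fin c → A) (hreg : IsRegularLocalRing (A ⧸ Ideal.span (Set.range y)))
    (hcodim : ringKrullDim (A ⧸ Ideal.span (Set.range y)) + c = m)
    (φ : MvPolynomial (Fin c) k →+* A)
    (hφC : ∀ a, φ (MvPolynomial.C a) = ε (MvPowerSeries.C a)) (hφX : ∀ i, φ (MvPolynomial.X i) = y i) :
    @CAlg.IsRegularHom (MvPolynomial (Fin c) k) _ A _ φ.toAlgebra := by
  have hAreg : IsRegularLocalRing A := IsRegularLocalRing.of_ringEquiv (R := MvPowerSeries (Fin m) k) ε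
  let J := Ideal.span (Set.range y)
  obtain ⟨d, hd⟩ : ∃ d : ℕ, ringKrullDim (A ⧸ J) = d :=
    ⟨_, (IsRegularLocalRing.spanFinrank_maximalIdeal (R := A ⧸ J)).symm⟩
  have hm : d + c = m := by
    have h := hcodim
    change ringKrullDim (A ⧸ J) + c = m at h
    rw [hd] at h
    exact_mod_cast h
  obtain ⟨t', ht'y, ht'⟩ := exists_parameters A c y hreg d hd
  have ht : Ideal.span (Set.range (fun i => ε.symm (t' i))) = maximalIdeal (MvPowerSeries (Fin m) k) := by
    have h1 : (Ideal.span (Set.range t')).map ε.symm.toRingHom =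
        Ideal.span (Set.range (fun i => ε.symm (t' i))) := by
      rw [Ideal.map_span, ← Set.range_comp]
      rfl
    rw [← h1, ht']
    exact IsLocalRing.map_ringEquiv_maximalIdeal ε.symm
  obtain ⟨e, he⟩ := exists_algEquiv k hm _ ht
  -- the tower `P → Q → S`
  let P := MvPolynomial (Fin c) k
  let Q := MvPolynomial (Fin d ⊕ Fin c) k
  let S := MvPowerSeries (Fin d ⊕ Fin c) k
  let aPQ : Algebra P Q := (MvPolynomial.rename (R := k) (Sum.inr : Fin c → Fin d ⊕ Fin c)).toRingHom.toAlgebra
  let aPS : Algebra P S := ((algebraMap Q S).comp (algebraMap P Q)).toAlgebra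
  have hST : IsScalarTower P Q S := IsScalarTower.of_algebraMap_eq fun _ => rfl
  have hPQ : CAlg.IsRegularHom P Q := by
    refine Groth.Agent.Ega4C.GeomCompReg.isRegularHom_of_algEquiv P (MvPolynomial (Fin d) P) Q ?_
      (Groth.Agent.Ega4C.GeomCompReg.isRegularHom_mvPolynomial P (Fin d))
    refine AlgEquiv.symm { MvPolynomial.sumAlgEquiv k (Fin d) (Fin c) with commutes' := ?_ }
    intro p
    change MvPolynomial.sumAlgEquiv k (Fin d) (Fin c) (MvPolynomial.rename Sum.inr p) = MvPolynomial.C p
    induction p using MvPolynomial.induction_on with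
    | C a => simp
    | add p q hp hq => rw [map_add, map_add, hp, hq, map_add]
    | mul_X p i hp => rw [map_mul, map_mul, hp, MvPolynomial.rename_X, MvPolynomial.sumAlgEquiv_X_inr, map_mul]
  have hk : CAlg.IsGRing k := Groth.Agent.Etdl.H437.RegPar.isGRing_field k
  have hQS : CAlg.IsRegularHom Q S := isRegularHom_mvPowerSeries k hk (Fin d ⊕ Fin c)
  have hNS : IsNoetherianRing S := isNoetherianRing_of_ringEquiv _ e.symm.toRingEquiv
  have hPS : CAlg.IsRegularHom P S := Groth.Agent.Ega4C.GeomCompReg.isRegularHom_comp P Q S hPQ hQS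
  let aPA : Algebra P A := φ.toAlgebra
  refine Groth.Agent.Ega4C.GeomCompReg.isRegularHom_of_algEquiv P S A
    { e.toRingEquiv.trans ε with commutes' := ?_ } hPS
  have key : ((e.toRingEquiv.trans ε : S ≃+* A) : S →+* A).comp (algebraMap P S) = φ := by
    refine MvPolynomial.ringHom_ext (fun a => ?_) (fun i => ?_)
    · rw [hφC]
      change ε (e (((MvPolynomial.rename Sum.inr (MvPolynomial.C a) : Q)) : S)) = _
      rw [MvPolynomial.rename_C, he, MvPolynomial.aeval_C]
      rfl
    · rw [hφX]
      change ε (e (((MvPolynomial.rename Sum.inr (MvPolynomial.X i) : Q)) : S)) = _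
      rw [MvPolynomial.rename_X, he, MvPolynomial.aeval_X, RingEquiv.apply_symm_apply, ht'y]
  intro p
  exact DFunLike.congr_fun key p

end Main

end Groth.Agent.Etdl.H437.RegPar
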