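import Groth.Agent.Etdl.H437.Final
import Groth.Agent.Etdl.H437.RegPar
import Groth.Agent.Etdl.H428.RegBC
import Groth.Agent.Etrest.ConstBasic

/-!
# Cohomological purity for power series rings over a field (assembly)
-/

set_option autoImplicit false
universe u
open CategoryTheory CategoryTheory.Limits AlgebraicGeometry Opposite

namespace Groth.Agent.Etdl.H437.Assemble

open IsLocalRing EtCoh Groth.Agent.Sga4B.PureTower Groth.Agent.Etdl.H437.Origin Groth.Agent.Etdl.H437.PureBC

section PowerSeries

variable (k : Type u) [Field k] (m : ℕ)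

theorem henselian : HenselianLocalRing (MvPowerSeries (Fin m) k) := by
  have := Groth.Agent.CalgB.PowField.isAdicComplete k m
  have h : HenselianRing (MvPowerSeries (Fin m) k) (maximalIdeal (MvPowerSeries (Fin m) k)) := inferInstance
  exact { is_henselian := fun f hf a₀ h1 h2 => by
            have h3 : IsUnit (Ideal.Quotient.mk (maximalIdeal (MvPowerSeries (Fin m) k))
              (f.derivative.eval a₀)) := h2.map _
            exact h.is_henselian f hf a₀ h1 h3 }

theorem residue_surjective' : Function.Surjective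
    (algebraMap k (ResidueField (MvPowerSeries (Fin m) k))) := by
  intro x
  obtain ⟨y, rfl⟩ := residue_surjective x
  refine ⟨MvPowerSeries.constantCoeff y, ?_⟩
  have h1 : algebraMap k (ResidueField (MvPowerSeries (Fin m) k)) (MvPowerSeries.constantCoeff y) =
      residue _ (MvPowerSeries.C (MvPowerSeries.constantCoeff y)) := rfl
  rw [h1, ← sub_eq_zero, ← map_sub, residue_eq_zero_iff, mem_maximalIdeal, mem_nonunits_iff,
    MvPowerSeries.isUnit_iff_constantCoeff, map_sub, MvPowerSeries.constantCoeff_C, sub_self]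
  exact not_isUnit_zero

/-- The residue field of `k[[x]]` is `k`. -/
noncomputable def residueEquiv : k ≃+* ResidueField (MvPowerSeries (Fin m) k) :=
  RingEquiv.ofBijective (algebraMap k (ResidueField (MvPowerSeries (Fin m) k)))
    ⟨(algebraMap k _).injective, residue_surjective' k m⟩

theorem isSepClosed_residueField [IsAlgClosed k] :
    IsSepClosed (ResidueField (MvPowerSeries (Fin m) k)) := by
  have := IsAlgClosed.of_ringEquiv k _ (residueEquiv k m)
  infer_instance

end PowerSeries

theorem isTorsionInvertibleOn {S T : Scheme.{u}} {F : Ab T} {n : ℕ} (hF : KilledBy n F)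
    (hn : IsUnit (n : Γ(S, ⊤))) : EtPBC.IsTorsionInvertibleOn S F :=
  fun U s x => ⟨U, 𝟙 U, n, ⟨x, rfl⟩, hn, hF U _⟩

/-- Cohomological purity for power series rings over an algebraically closed field in which `n` is invertible,
given purity of the origin of affine space. -/
theorem result (k : Type u) [Field k] [IsAlgClosed k] (m c n : ℕ) [NeZero n]
    (y : Fin c → Γ(Spec (CommRingCat.of (MvPowerSeries (Fin m) k)), ⊤))
    (hreg : IsRegularLocalRing (Γ(Spec (CommRingCat.of (MvPowerSeries (Fin m) k)), ⊤) ⧸ Ideal.span (Set.range y)))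
    (hcodim : ringKrullDim (Γ(Spec (CommRingCat.of (MvPowerSeries (Fin m) k)), ⊤) ⧸
      Ideal.span (Set.range y)) + c = m)
    (hP : PureR n c (zeroSec c k)) (hn : IsUnit (n : k)) :
    (∀ q : ℕ, q ≠ 2 * c → IsZero ((EtDual.HY (⨆ i : Fin c,
      (Spec (CommRingCat.of (MvPowerSeries (Fin m) k))).basicOpen (y i)).ι q).obj
      (EtCoh.const (Spec (CommRingCat.of (MvPowerSeries (Fin m) k))) (ZMod n)))) ∧
    Nonempty (↑((EtDual.HY (⨆ i : Fin c,
      (Spec (CommRingCat.of (MvPowerSeries (Fin m) k))).basicOpen (y i)).ι (2 * c)).obj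
      (EtCoh.const (Spec (CommRingCat.of (MvPowerSeries (Fin m) k))) (ZMod n))) ≃+ ZMod n) := by
  have i1 := henselian k m
  have i2 := isSepClosed_residueField k m
  let ε : Γ(Spec (CommRingCat.of (MvPowerSeries (Fin m) k)), ⊤) ≃+* MvPowerSeries (Fin m) k :=
    (Scheme.ΓSpecIso (CommRingCat.of (MvPowerSeries (Fin m) k))).commRingCatIsoToRingEquiv
  let φ : MvPolynomial (Fin c) k →+* MvPowerSeries (Fin m) k :=
    (MvPolynomial.aeval (R := k) fun i => ε (y i)).toRingHom
  have hφX : ∀ i, φ (MvPolynomial.X i) = ε (y i) := fun i => MvPolynomial.aeval_X _ i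
  have hmap : (Ideal.span (Set.range y)).map (ε : _ →+* _) = Ideal.span (Set.range fun i => ε (y i)) := by
    rw [Ideal.map_span, ← Set.range_comp]
    rfl
  let ε' : (Γ(Spec (CommRingCat.of (MvPowerSeries (Fin m) k)), ⊤) ⧸ Ideal.span (Set.range y)) ≃+*
      (MvPowerSeries (Fin m) k ⧸ Ideal.span (Set.range fun i => ε (y i))) :=
    Ideal.quotientEquiv _ _ ε hmap.symm
  have hreg' : IsRegularLocalRing (MvPowerSeries (Fin m) k ⧸ Ideal.span (Set.range fun i => ε (y i))) :=
    IsRegularLocalRing.of_ringEquiv ε'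
  have hcodim' : ringKrullDim (MvPowerSeries (Fin m) k ⧸ Ideal.span (Set.range fun i => ε (y i))) + c = m := by
    rw [← ringKrullDim_eq_of_ringEquiv ε', hcodim]
  have hR := RegPar.isRegularHom_of_ringHom k (MvPowerSeries (Fin m) k) (RingEquiv.refl _)
    (fun i => ε (y i)) hreg' hcodim' φ (fun a => MvPolynomial.aeval_C _ a) hφX
  have hφm : ∀ i, φ (MvPolynomial.X i) ∈ maximalIdeal (MvPowerSeries (Fin m) k) := by
    intro i
    have h1 : Ideal.span (Set.range fun i => ε (y i)) ≤ maximalIdeal (MvPowerSeries (Fin m) k) :=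
      le_maximalIdeal fun h => by
        have : Subsingleton (MvPowerSeries (Fin m) k ⧸ Ideal.span (Set.range fun i => ε (y i))) :=
          Ideal.Quotient.subsingleton_iff.2 h
        exact not_subsingleton (MvPowerSeries (Fin m) k ⧸ Ideal.span (Set.range fun i => ε (y i))) this
    rw [hφX]
    exact h1 (Ideal.subset_span ⟨i, rfl⟩)
  refine Final.main (R := k) c n hP φ hφm (fun _ => ?_) _
    (Final.preimage_compl c φ y (fun i => (hφX i).symm))
  -- base change
  have hnS : IsUnit (n : Γ(Spec (CommRingCat.of (MvPolynomial (Fin c) k)), ⊤)) := by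
    have h := hn.map ((Scheme.ΓSpecIso (CommRingCat.of (MvPolynomial (Fin c) k))).inv.hom.comp
      (MvPolynomial.C : k →+* MvPolynomial (Fin c) k))
    rwa [map_natCast] at h
  let _ : Algebra (MvPolynomial (Fin c) k) (MvPowerSeries (Fin m) k) := φ.toAlgebra
  have hF : KilledBy n ((pull (compl c k).ι).obj
      (const (Spec (CommRingCat.of (MvPolynomial (Fin c) k))) (ZMod n))) :=
    Groth.Agent.Sga4B.Pure.killedBy_pull_etale _
      (Groth.Agent.Etrest.ConstBasic.killedBy_const _ (ZMod n) n (fun a => by simp))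
  have key := fun q => Groth.Agent.Etdl.H428.RegBC.baseChange_of_isRegularHom hR (compl c k).ι
    ((Spec.map (CommRingCat.ofHom φ)) ⁻¹ᵁ (compl c k)).ι (Spec.map (CommRingCat.ofHom φ) ∣_ compl c k)
    (isPullback_morphismRestrict (Spec.map (CommRingCat.ofHom φ)) (compl c k)) _
    (isTorsionInvertibleOn hF hnS) q
  exact ⟨fun q => (key q).1, (key 0).2⟩

end Groth.Agent.Etdl.H437.Assemble
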