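import Groth.Agent.Sga5.OneRow
import Groth.Agent.Sga5.LocCohSeq
import Groth.Agent.Sga4h.LocCohLES
import Groth.Agent.S0073
import Groth.Agent.S0074

/-!
# Local cohomology groups on a strictly henselian local scheme

If `ℋ^q_Y(F) = 0` for `q ≠ 2c` on `X = Spec A`, `A` strictly henselian local, then `H^q_Y(X, F) = 0` for
`q ≠ 2c` and `H^{2c}_Y(X, F)` is the stalk of `ℋ^{2c}_Y(F)` at the closed point.
-/

set_option autoImplicit false
universe u
open CategoryTheory CategoryTheory.Limits AlgebraicGeometry Opposite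

namespace Groth.Agent.Etdl.H437.HYLocal

open EtCoh Groth.Agent.Sga4h Groth.Agent.EtpbcB.GammaRpush Groth.Agent.EtpbcB.SepClosedPoint Groth.Agent.EtpbcB.Acyc
  Groth.Agent.Sga5.LocCohSeq

variable {A : Type u} [CommRing A] [HenselianLocalRing A] [IsSepClosed (IsLocalRing.ResidueField A)]

/-- The geometric closed point. -/
noncomputable abbrev pt (A : Type u) [CommRing A] [IsLocalRing A] :
    Spec (CommRingCat.of (IsLocalRing.ResidueField A)) ⟶ Spec (CommRingCat.of A) :=
  Spec.map (CommRingCat.ofHom (IsLocalRing.residue A))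

theorem isZero_ev_rightDerived (G : Ab (Spec (CommRingCat.of A))) (p : ℕ) (hp : 0 < p) :
    IsZero (((ev (top (Spec (CommRingCat.of A)))).rightDerived p).obj G) := by
  obtain ⟨e⟩ := H_rightDerived (Spec (CommRingCat.of A)) G p
  have h1 := Groth.Agent.S0073.result A G p hp
  have h2 : Subsingleton (((Γtop (Spec (CommRingCat.of A))).rightDerived p).obj G) :=
    e.symm.toEquiv.subsingleton
  exact AddCommGrpCat.isZero_of_subsingleton _

/-- Global sections are the stalk at the closed point. -/
theorem nonempty_ev_stalk (G : Ab (Spec (CommRingCat.of A))) :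
    Nonempty (((ev (top (Spec (CommRingCat.of A)))).rightDerived 0).obj G ≅ (stalk (pt A)).obj G) := by
  have h := Groth.Agent.S0074.result A G
  let t : G.obj.obj (op (top (Spec (CommRingCat.of A)))) ⟶ (stalk (pt A)).obj G :=
    (Scheme.pointSmallEtale (pt A)).toPresheafFiber (top (Spec (CommRingCat.of A)))
      (Over.homMk (pt A) (Category.comp_id _)) G.obj
  have h2 : IsIso t := (ConcreteCategory.isIso_iff_bijective t).2 h
  exact ⟨((ev (top (Spec (CommRingCat.of A)))).rightDerivedZeroIsoSelf.app G) ≪≫ asIso t⟩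

variable {U : Scheme.{u}} (j : U ⟶ Spec (CommRingCat.of A)) [IsOpenImmersion j] [BCCont j]

/-- `H^q_Y(X, F)` when the local cohomology sheaves are concentrated in degree `2c`. -/
theorem HY_of_pure (F : Ab (Spec (CommRingCat.of A))) (c : ℕ)
    (hz : ∀ q, q ≠ 2 * c → IsZero ((EtDual.locCoh j q).obj F)) :
    (∀ q, q ≠ 2 * c → IsZero ((EtDual.HY j q).obj F)) ∧
      Nonempty ((EtDual.HY j (2 * c)).obj F ≅ (stalk (pt A)).obj ((EtDual.locCoh j (2 * c)).obj F)) := by
  have hlex := Groth.Agent.Sga4h.LocCohLES.preservesFiniteLimits_secSupp j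
  have hinj : ∀ I : Ab (Spec (CommRingCat.of A)), Injective I → Injective ((EtDual.secSupp j).obj I) :=
    fun I hI => SecSupp.injective_secSupp j I
  obtain ⟨r, hr⟩ : ∃ r, r = 2 * c := ⟨_, rfl⟩
  rw [← hr] at hz ⊢
  have key : ∀ p, Nonempty ((EtDual.HY j (p + r)).obj F ≅
      ((ev (top (Spec (CommRingCat.of A)))).rightDerived p).obj ((EtDual.locCoh j r).obj F)) := by
    intro p
    cases r with
    | zero =>
      have hac : Acyclic (EtDual.secSupp j) F := fun q hq => hz q (by omega)
      obtain ⟨e⟩ := comp_acyclic (EtDual.secSupp j) (ev (top (Spec (CommRingCat.of A))))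
        (fun I hI => by
          have := hinj I hI
          exact acyclic_of_injective _ _) F hac p
      exact ⟨e.symm ≪≫ ((ev (top (Spec (CommRingCat.of A)))).rightDerived p).mapIso
        ((EtDual.secSupp j).rightDerivedZeroIsoSelf.symm.app F)⟩
    | succ r =>
      have hdeg0 : IsZero ((EtDual.secSupp j).obj F) :=
        (hz 0 (by omega)).of_iso ((EtDual.secSupp j).rightDerivedZeroIsoSelf.app F).symm
      have i1 : Injective ((EtDual.secSupp j).obj F) := ⟨fun g f _ => ⟨0, hdeg0.eq_of_tgt _ _⟩⟩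
      exact Groth.Agent.Sga5.OneRow.oneRow (EtDual.secSupp j) (ev (top (Spec (CommRingCat.of A)))) hinj r F i1
        (fun q _ hq => hz q hq) p
  refine ⟨fun q hq => ?_, ?_⟩
  · rcases lt_or_gt_of_ne hq with h | h
    · exact Sga4h.Edge.isZero_rightDerived_comp (EtDual.secSupp j) (ev (top (Spec (CommRingCat.of A))))
        hinj F r (fun p hp => hz p (by omega)) q h
    · obtain ⟨p, rfl⟩ : ∃ p, q = p + r := ⟨q - r, by omega⟩
      obtain ⟨e⟩ := key p
      exact (isZero_ev_rightDerived _ p (by omega)).of_iso e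
  · obtain ⟨e⟩ := key 0
    rw [Nat.zero_add] at e
    obtain ⟨e'⟩ := nonempty_ev_stalk ((EtDual.locCoh j r).obj F)
    exact ⟨e ≪≫ e'⟩

end Groth.Agent.Etdl.H437.HYLocal
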