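import Groth.Agent.Sga4B.PureTower
import Groth.Agent.Sga4B.StalkLocal
import Mathlib.RingTheory.MvPolynomial.Ideal

/-!
# Purity for the origin of affine space

`compl c k`: the complement of the zero section of `Spec k[X_1, …, X_c]`, as the union of the `D(X_i)`.
-/

set_option autoImplicit false
universe u
open CategoryTheory CategoryTheory.Limits AlgebraicGeometry Opposite

namespace Groth.Agent.Etdl.H437.Origin

open Groth.Agent.Sga4B.PureTower Groth.Agent.Sga4B.Pure

/-- The union of the `D(X_i)` in `Spec R[X_1, …, X_c]`. -/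
noncomputable def compl (c : ℕ) (R : Type u) [CommRing R] :
    (Spec (CommRingCat.of (MvPolynomial (Fin c) R))).Opens :=
  ⨆ i : Fin c, (Spec (CommRingCat.of (MvPolynomial (Fin c) R))).basicOpen
    ((Scheme.ΓSpecIso (CommRingCat.of (MvPolynomial (Fin c) R))).inv (MvPolynomial.X i))

theorem mem_compl_iff (c : ℕ) (R : Type u) [CommRing R]
    (x : Spec (CommRingCat.of (MvPolynomial (Fin c) R))) :
    x ∈ compl c R ↔ ∃ i, (MvPolynomial.X i : MvPolynomial (Fin c) R) ∉ x.asIdeal := by
  unfold compl; rw [TopologicalSpace.Opens.mem_iSup]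
  refine exists_congr fun i => ?_
  rw [basicOpen_eq_of_affine]
  rfl

theorem range_zeroSec (c : ℕ) (R : Type u) [CommRing R]
    (x : Spec (CommRingCat.of (MvPolynomial (Fin c) R))) :
    x ∈ Set.range (zeroSec c R) ↔ ∀ i, (MvPolynomial.X i : MvPolynomial (Fin c) R) ∈ x.asIdeal := by
  have h1 := range_comap_of_surjective R
    (MvPolynomial.constantCoeff : MvPolynomial (Fin c) R →+* R)
    (fun a => ⟨MvPolynomial.C a, MvPolynomial.constantCoeff_C _ a⟩)
  change x ∈ Set.range (PrimeSpectrum.comap (MvPolynomial.constantCoeff : MvPolynomial (Fin c) R →+* R)) ↔ _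
  rw [h1]
  change ((RingHom.ker (MvPolynomial.constantCoeff : MvPolynomial (Fin c) R →+* R) : Set _) ⊆ ((x.asIdeal : Ideal (MvPolynomial (Fin c) R)) : Set (MvPolynomial (Fin c) R))) ↔ _
  constructor
  · intro h i
    exact h (by
      rw [SetLike.mem_coe, RingHom.mem_ker]
      exact MvPolynomial.constantCoeff_X _ i)
  · intro h f hf
    have h2 : f ∈ Ideal.span (MvPolynomial.X '' (Set.univ : Set (Fin c))) := by
      rw [MvPolynomial.mem_ideal_span_X_image]
      intro m hm
      by_contra hne
      push Not at hne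
      have h0 : m = 0 := Finsupp.ext fun i => hne i (Set.mem_univ i)
      rw [h0, MvPolynomial.mem_support_iff] at hm
      exact hm hf
    have h3 : Ideal.span (MvPolynomial.X '' (Set.univ : Set (Fin c))) ≤ x.asIdeal := by
      rw [Ideal.span_le]
      rintro _ ⟨i, -, rfl⟩
      exact h i
    exact h3 h2

theorem range_compl (c : ℕ) (R : Type u) [CommRing R] :
    Set.range (compl c R).ι = (Set.range (zeroSec c R))ᶜ := by
  ext x
  rw [Set.mem_compl_iff, range_zeroSec]
  have h : Set.range (compl c R).ι = (compl c R : Set _) := Subtype.range_coe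
  rw [h, SetLike.mem_coe, mem_compl_iff]
  push Not
  rfl

/-- Purity of the origin. -/
theorem pureAt (c : ℕ) (R : Type u) [CommRing R] (n : ℕ) (hP : PureR n c (zeroSec c R)) [NeZero n] :
    PureAt c (compl c R).ι (zeroSec c R) (EtCoh.const _ (ZMod n)) :=
  hP _ (compl c R).ι (range_compl c R) (ZMod n) (fun m => by simp)

/-- The stalk of the local cohomology sheaf at a geometric point over the zero section. -/
theorem nonempty_stalk (c : ℕ) (R : Type u) [CommRing R] (n : ℕ) (hP : PureR n c (zeroSec c R)) [NeZero n]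
    {Ω : Type u} [Field Ω] [IsSepClosed Ω]
    (ξ : Spec (CommRingCat.of Ω) ⟶ Spec (CommRingCat.of (MvPolynomial (Fin c) R)))
    (h : ξ default ∈ Set.range (zeroSec c R)) :
    Nonempty ((EtCoh.stalk ξ).obj ((EtDual.locCoh (compl c R).ι (2 * c)).obj (EtCoh.const _ (ZMod n))) ≃+
      ZMod n) := by
  obtain ⟨-, ι, V, hV, hiso⟩ := pureAt c R n hP
  obtain ⟨e⟩ := Groth.Agent.Sga4B.StalkLocal.nonempty_stalk_iso_of_restr V hV hiso ξ
  obtain ⟨e'⟩ := Groth.Agent.Sga4B.StalkLocal.nonempty_stalk_push_pull_const (zeroSec c R) (ZMod n) ξ h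
  exact ⟨e.addCommGroupIsoToAddEquiv.trans e'⟩

end Groth.Agent.Etdl.H437.Origin
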