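import Groth.Agent.Etdl.H437.PureBC
import Groth.Agent.Etdl.H437.HYLocal
import Groth.Agent.Etdl.H437.Origin
import Groth.Agent.Sga4B.LocCohTriv
import Groth.Agent.Etbase.StalkPull

/-!
# Local cohomology of strictly henselian local schemes over affine space, supported over the origin
-/

set_option autoImplicit false
universe u
open CategoryTheory CategoryTheory.Limits AlgebraicGeometry Opposite

namespace Groth.Agent.Etdl.H437.Final

open EtCoh Groth.Agent.Etdl.H437.Origin Groth.Agent.Etdl.H437.HYLocal Groth.Agent.Etdl.H437.PureBC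
  Groth.Agent.Sga4B.PureTower

theorem preimage_compl (c : ℕ) {R A : Type u} [CommRing R] [CommRing A] (φ : MvPolynomial (Fin c) R →+* A)
    (y : Fin c → Γ(Spec (CommRingCat.of A), ⊤))
    (hy : ∀ i, (Scheme.ΓSpecIso (CommRingCat.of A)).hom (y i) = φ (MvPolynomial.X i)) :
    (Spec.map (CommRingCat.ofHom φ)) ⁻¹ᵁ (compl c R) = ⨆ i, (Spec (CommRingCat.of A)).basicOpen (y i) := by
  ext x
  have h1 : x ∈ (Spec.map (CommRingCat.ofHom φ)) ⁻¹ᵁ (compl c R) ↔
      (Spec.map (CommRingCat.ofHom φ)) x ∈ compl c R := Iff.rfl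
  rw [SetLike.mem_coe, SetLike.mem_coe, h1, mem_compl_iff, TopologicalSpace.Opens.mem_iSup]
  refine exists_congr fun i => ?_
  rw [basicOpen_eq_of_affine']
  have h2 : x ∈ PrimeSpectrum.basicOpen ((Scheme.ΓSpecIso (CommRingCat.of A)).hom (y i)) ↔
      (Scheme.ΓSpecIso (CommRingCat.of A)).hom (y i) ∉ x.asIdeal := Iff.rfl
  refine Iff.trans ?_ h2.symm
  rw [hy]
  rfl

section

variable {A : Type u} [CommRing A] [HenselianLocalRing A] [IsSepClosed (IsLocalRing.ResidueField A)]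

theorem HY_const_of_isEmpty {U : Scheme.{u}} [IsEmpty U] (j : U ⟶ Spec (CommRingCat.of A)) [IsOpenImmersion j]
    [BCCont j] (n : ℕ) :
    (∀ q, q ≠ 0 → IsZero ((EtDual.HY j q).obj (const (Spec (CommRingCat.of A)) (ZMod n)))) ∧
      Nonempty (((EtDual.HY j 0).obj (const (Spec (CommRingCat.of A)) (ZMod n)) : AddCommGrpCat.{u + 1}) ≃+
        ZMod n) := by
  have hz : ∀ q, q ≠ 2 * 0 → IsZero ((EtDual.locCoh j q).obj (const (Spec (CommRingCat.of A)) (ZMod n))) := by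
    intro q hq
    obtain ⟨q, rfl⟩ := Nat.exists_eq_succ_of_ne_zero hq
    exact Groth.Agent.Sga4B.LocCohTriv.isZero_locCoh_succ_of_isEmpty j _ q
  obtain ⟨h1, ⟨e⟩⟩ := HY_of_pure j (const (Spec (CommRingCat.of A)) (ZMod n)) 0 hz
  refine ⟨fun q hq => h1 q hq, ?_⟩
  obtain ⟨e'⟩ := Groth.Agent.Sga4B.StalkLocal.nonempty_stalk_const (X := Spec (CommRingCat.of A)) (ZMod n) (pt A)
  exact ⟨(e ≪≫ (stalk (pt A)).mapIso
    (Groth.Agent.Sga4B.LocCohTriv.locCohZeroIsoOfIsEmpty j _)).addCommGroupIsoToAddEquiv.trans e'⟩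

variable {R : Type u} [CommRing R]

theorem pt_mem_range_zeroSec (c : ℕ) (φ : MvPolynomial (Fin c) R →+* A)
    (hφ : ∀ i, φ (MvPolynomial.X i) ∈ IsLocalRing.maximalIdeal A) :
    (pt A ≫ Spec.map (CommRingCat.ofHom φ)) default ∈ Set.range (zeroSec c R) := by
  rw [range_zeroSec]
  intro i
  rw [Scheme.Hom.comp_apply]
  have h : pt A default = IsLocalRing.closedPoint A := by
    apply PrimeSpectrum.ext
    ext a
    change IsLocalRing.residue A a ∈ (⊥ : Ideal (IsLocalRing.ResidueField A)) ↔ a ∈ IsLocalRing.maximalIdeal A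
    rw [Ideal.mem_bot, IsLocalRing.residue_eq_zero_iff]
  rw [h]
  exact hφ i

/-- The main statement, given base change. -/
theorem main (c n : ℕ) [NeZero n] (hP : PureR n c (zeroSec c R)) (φ : MvPolynomial (Fin c) R →+* A)
    (hφ : ∀ i, φ (MvPolynomial.X i) ∈ IsLocalRing.maximalIdeal A)
    (hBC : 0 < c → BC (Spec.map (CommRingCat.ofHom φ)) (compl c R).ι
      ((Spec.map (CommRingCat.ofHom φ)) ⁻¹ᵁ (compl c R)).ι (Spec.map (CommRingCat.ofHom φ) ∣_ compl c R)
      (isPullback_morphismRestrict (Spec.map (CommRingCat.ofHom φ)) (compl c R)).w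
      (const _ (ZMod n)))
    (W : (Spec (CommRingCat.of A)).Opens) (hW : (Spec.map (CommRingCat.ofHom φ)) ⁻¹ᵁ (compl c R) = W) :
    (∀ q, q ≠ 2 * c → IsZero ((EtDual.HY W.ι q).obj (const (Spec (CommRingCat.of A)) (ZMod n)))) ∧
      Nonempty (((EtDual.HY W.ι (2 * c)).obj (const (Spec (CommRingCat.of A)) (ZMod n)) : AddCommGrpCat.{u + 1})
        ≃+ ZMod n) := by
  subst hW
  rcases Nat.eq_zero_or_pos c with rfl | hc
  · have hE : IsEmpty ((Spec.map (CommRingCat.ofHom φ)) ⁻¹ᵁ (compl 0 R) : (Spec (CommRingCat.of A)).Opens) := by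
      refine ⟨fun x => ?_⟩
      obtain ⟨i, -⟩ := (mem_compl_iff 0 R _).1 x.2
      exact i.elim0
    have hE' : IsEmpty (((Spec.map (CommRingCat.ofHom φ)) ⁻¹ᵁ (compl 0 R) : (Spec (CommRingCat.of A)).Opens) : Scheme.{u}) := hE
    exact HY_const_of_isEmpty _ n
  · set p := Spec.map (CommRingCat.ofHom φ) with hp
    have hbc := hBC hc
    have hpure := pureAt c R n hP
    obtain ⟨h1, ⟨e1⟩⟩ := hbc.pure hc hpure.1
    obtain ⟨h2, ⟨e2⟩⟩ := HY_of_pure (p ⁻¹ᵁ compl c R).ι ((pull p).obj (const _ (ZMod n))) c h1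
    let κ : (pull p).obj (const _ (ZMod n)) ≅ const (Spec (CommRingCat.of A)) (ZMod n) :=
      EtCore.pullConst p (ZMod n)
    refine ⟨fun q hq => (h2 q hq).of_iso ((EtDual.HY _ q).mapIso κ.symm), ?_⟩
    obtain ⟨e3⟩ := nonempty_stalk c R n hP (pt A ≫ p) (pt_mem_range_zeroSec c φ hφ)
    exact ⟨((EtDual.HY _ (2 * c)).mapIso κ.symm ≪≫ e2 ≪≫ (stalk (pt A)).mapIso e1 ≪≫
      ((Groth.Agent.Etbase.StalkPull.stalkPullIso p (pt A)).app _).symm).addCommGroupIsoToAddEquiv.trans e3⟩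

end

end Groth.Agent.Etdl.H437.Final
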