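import Mathlib.RingTheory.Localization.Integral
import Mathlib.RingTheory.Algebraic.Integral
import Mathlib.FieldTheory.PrimitiveElement
import Mathlib.FieldTheory.Minpoly.IsIntegrallyClosed
import Mathlib.RingTheory.Localization.Away.Basic
import Mathlib.RingTheory.AdjoinRoot
import Mathlib.RingTheory.Localization.FractionRing

set_option autoImplicit false
universe u

namespace Groth.Agent.Etdl.H437.ModelGen

open Polynomial

section Gen

variable {A : Type u} [CommRing A] (g : A) (C : Type u) [CommRing C] [Algebra A C]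
  [Algebra (Localization.Away g) C] [IsScalarTower A (Localization.Away g) C]
  [Module.Finite (Localization.Away g) C]

/-- Finitely many generators up to powers of `g`. -/
theorem exists_gens : ∃ t : Finset C, ∀ c : C, ∃ k : ℕ, g ^ k • c ∈ Submodule.span A (t : Set C) := by
  classical
  obtain ⟨t, ht⟩ := (Module.Finite.fg_top : (⊤ : Submodule (Localization.Away g) C).FG)
  refine ⟨t, fun c => ?_⟩
  have hc : c ∈ Submodule.span (Localization.Away g) (t : Set C) := by rw [ht]; trivial
  induction hc using Submodule.span_induction with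
  | mem x hx => exact ⟨0, by rw [pow_zero, one_smul]; exact Submodule.subset_span hx⟩
  | zero => exact ⟨0, by rw [smul_zero]; exact Submodule.zero_mem _⟩
  | add x y _ _ hx hy =>
    obtain ⟨k, hk⟩ := hx
    obtain ⟨l, hl⟩ := hy
    refine ⟨k + l, ?_⟩
    rw [smul_add]
    refine Submodule.add_mem _ ?_ ?_
    · rw [pow_add, mul_comm, mul_smul]
      exact Submodule.smul_mem _ _ hk
    · rw [pow_add, mul_smul]
      exact Submodule.smul_mem _ _ hl
  | smul a x _ hx =>
    obtain ⟨k, hk⟩ := hx
    obtain ⟨⟨b, ⟨_, l, rfl⟩⟩, h⟩ := IsLocalization.surj (Submonoid.powers g) a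
    refine ⟨l + k, ?_⟩
    have h1 : g ^ l • (a • x) = b • x := by
      rw [← algebraMap_smul (Localization.Away g) b x, ← algebraMap_smul (Localization.Away g) (g ^ l) (a • x),
        smul_smul, mul_comm]
      exact congrArg (· • x) h
    rw [pow_add, mul_comm, mul_smul, h1, smul_comm]
    exact Submodule.smul_mem _ _ hk

end Gen

section Prim

variable {A : Type u} [CommRing A] [IsDomain A] [CharZero A] [IsIntegrallyClosed A]
  {C : Type u} [CommRing C] [IsDomain C] [Algebra A C] [FaithfulSMul A C]

attribute [local instance] FractionRing.liftAlgebra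

theorem exists_smul_mem_adjoin (t : Finset C) (g : A) (hg : g ≠ 0)
    (ht : ∀ c : C, ∃ k : ℕ, g ^ k • c ∈ Submodule.span A (t : Set C)) [Algebra.IsAlgebraic A C] (x : A) (hx : x ≠ 0) :
    ∃ (θ : C) (a b : A[X]) (w : A), IsIntegral A θ ∧ w ≠ 0 ∧ g * x ∣ w ∧
      a * minpoly A θ + b * derivative (minpoly A θ) = Polynomial.C w ∧
      ∀ c : C, ∃ k : ℕ, w ^ k • c ∈ Algebra.adjoin A {θ} := by
  classical
  let F := FractionRing A
  let L := FractionRing C
  have hAF : Function.Injective (algebraMap A F) := IsFractionRing.injective A F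
  have hCL : Function.Injective (algebraMap C L) := IsFractionRing.injective C L
  have hcl : CharZero F := charZero_of_injective_algebraMap hAF
  have hAC : Function.Injective (algebraMap A C) := FaithfulSMul.algebraMap_injective A C
  -- every element of `L` is `c / s`
  have hloc : ∀ y : L, ∃ (s : A) (c : C), s ≠ 0 ∧ s • y = algebraMap C L c := by
    intro y
    obtain ⟨⟨c, ⟨_, s, hs, rfl⟩⟩, h⟩ := IsLocalization.surj (Algebra.algebraMapSubmonoid C (nonZeroDivisors A)) y
    refine ⟨s, c, nonZeroDivisors.ne_zero hs, ?_⟩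
    rw [← h, Algebra.smul_def, IsScalarTower.algebraMap_apply A C L, mul_comm]
  have hfin : FiniteDimensional F L := by
    refine ⟨⟨t.image (algebraMap C L), ?_⟩⟩
    rw [eq_top_iff]
    rintro y -
    obtain ⟨s, c, hs, hy⟩ := hloc y
    obtain ⟨k, hk⟩ := ht c
    have h1 : algebraMap C L (g ^ k • c) ∈ Submodule.span F (algebraMap C L '' (t : Set C)) := by
      have h2 : algebraMap C L (g ^ k • c) ∈ (Submodule.span A (t : Set C)).map
          (IsScalarTower.toAlgHom A C L).toLinearMap := ⟨_, hk, rfl⟩
      rw [Submodule.map_span] at h2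
      exact Submodule.span_subset_span A F _ h2
    have h3 : y = (algebraMap A F (s * g ^ k))⁻¹ • algebraMap C L (g ^ k • c) := by
      have h4 : algebraMap A F (s * g ^ k) ≠ 0 := by
        rw [Ne, map_eq_zero_iff _ hAF]
        exact mul_ne_zero hs (pow_ne_zero _ hg)
      rw [eq_inv_smul_iff₀ h4, algebraMap_smul, mul_comm, mul_smul, hy, Algebra.smul_def, Algebra.smul_def,
        map_mul, IsScalarTower.algebraMap_apply A C L]
    rw [h3, Finset.coe_image]
    exact Submodule.smul_mem _ _ h1
  obtain ⟨α, hα⟩ := Field.exists_primitive_element F L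
  obtain ⟨s, c, hs, hc⟩ := hloc α
  obtain ⟨y, hy, hyi⟩ := (Algebra.IsAlgebraic.isAlgebraic (R := A) c).exists_integral_multiple
  let θ : C := y • c
  have hθα : algebraMap C L θ = (y * s) • α := by
    change algebraMap C L (y • c) = _
    rw [mul_smul, hc, Algebra.smul_def, Algebra.smul_def, map_mul, IsScalarTower.algebraMap_apply A C L]
  have hθtop : IntermediateField.adjoin F {algebraMap C L θ} = ⊤ := by
    rw [eq_top_iff, ← hα, IntermediateField.adjoin_simple_le_iff]
    have h4 : algebraMap A F (y * s) ≠ 0 := by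
      rw [Ne, map_eq_zero_iff _ hAF]
      exact mul_ne_zero hy hs
    have h5 : α = (algebraMap A F (y * s))⁻¹ • algebraMap C L θ := by
      rw [eq_inv_smul_iff₀ h4, algebraMap_smul, hθα]
    rw [h5]
    exact IntermediateField.smul_mem _ (IntermediateField.mem_adjoin_simple_self F _)
  have hθF : IsIntegral F (algebraMap C L θ) := Algebra.IsIntegral.isIntegral _
  -- elements of `L` are polynomials in `θ`
  have hpoly : ∀ z : L, ∃ (s : A) (q : A[X]), s ≠ 0 ∧ s • z = aeval (algebraMap C L θ) q := by
    intro z
    have h1 : z ∈ Algebra.adjoin F {algebraMap C L θ} := by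
      have h2 : z ∈ (IntermediateField.adjoin F {algebraMap C L θ}).toSubalgebra := by
        rw [hθtop]; trivial
      rwa [IntermediateField.adjoin_simple_toSubalgebra_of_isAlgebraic hθF.isAlgebraic] at h2
    rw [Algebra.adjoin_singleton_eq_range_aeval] at h1
    obtain ⟨q, hq⟩ := h1
    obtain ⟨b, hb, hb2⟩ := IsLocalization.integerNormalization_spec (nonZeroDivisors A) q
    refine ⟨b, IsLocalization.integerNormalization (nonZeroDivisors A) q, nonZeroDivisors.ne_zero hb, ?_⟩
    rw [← aeval_map_algebraMap F, hb2, ← algebraMap_smul F b q, map_smul, algebraMap_smul]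
    exact congrArg (b • ·) hq.symm
  -- the minimal polynomial
  have hmin : minpoly F (algebraMap C L θ) = (minpoly A θ).map (algebraMap A F) :=
    minpoly.isIntegrallyClosed_eq_field_fractions F L hyi
  have hsep : (minpoly F (algebraMap C L θ)).Separable := (minpoly.irreducible hθF).separable
  obtain ⟨u, v, huv⟩ := hsep
  obtain ⟨bu, hbu, hu⟩ := IsLocalization.integerNormalization_spec (nonZeroDivisors A) u
  obtain ⟨bv, hbv, hv⟩ := IsLocalization.integerNormalization_spec (nonZeroDivisors A) v
  set nu := IsLocalization.integerNormalization (nonZeroDivisors A) u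
  set nv := IsLocalization.integerNormalization (nonZeroDivisors A) v
  have hid : (Polynomial.C bv * nu) * minpoly A θ + (Polynomial.C bu * nv) * derivative (minpoly A θ) =
      Polynomial.C (bu * bv) := by
    apply Polynomial.map_injective _ hAF
    rw [Polynomial.map_add, Polynomial.map_mul, Polynomial.map_mul, Polynomial.map_mul, Polynomial.map_mul,
      ← derivative_map, ← hmin, hu, hv, map_C, map_C, map_C, ← algebraMap_smul F bu u, ← algebraMap_smul F bv v,
      smul_eq_C_mul, smul_eq_C_mul, map_mul, map_mul]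
    linear_combination (Polynomial.C (algebraMap A F bu) * Polynomial.C (algebraMap A F bv)) * huv
  -- the generators
  have hgen : ∀ c : C, ∃ s : A, s ≠ 0 ∧ s • c ∈ Algebra.adjoin A {θ} := by
    intro c
    obtain ⟨s, q, hs, hq⟩ := hpoly (algebraMap C L c)
    refine ⟨s, hs, ?_⟩
    have h1 : s • c = aeval θ q := by
      apply hCL
      rw [← aeval_algebraMap_apply, ← hq, Algebra.smul_def, Algebra.smul_def, map_mul,
        IsScalarTower.algebraMap_apply A C L]
    rw [h1]
    exact aeval_mem_adjoin_singleton A θ
  choose σ hσ0 hσ using hgen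
  let S : A := ∏ c ∈ t, σ c
  have hS0 : S ≠ 0 := Finset.prod_ne_zero_iff.2 fun c _ => hσ0 c
  have hS : ∀ c ∈ Submodule.span A (t : Set C), S • c ∈ Algebra.adjoin A {θ} := by
    intro c hc
    induction hc using Submodule.span_induction with
    | mem c hc =>
      have h1 : S = (∏ d ∈ t.erase c, σ d) * σ c := (Finset.prod_erase_mul t σ hc).symm
      rw [h1, mul_smul]
      exact Subalgebra.smul_mem _ (hσ c) _
    | zero => rw [smul_zero]; exact Subalgebra.zero_mem _
    | add c d _ _ hc hd => rw [smul_add]; exact Subalgebra.add_mem _ hc hd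
    | smul a c _ hc => rw [smul_comm]; exact Subalgebra.smul_mem _ hc _
  refine ⟨θ, Polynomial.C (g * x * S) * (Polynomial.C bv * nu), Polynomial.C (g * x * S) * (Polynomial.C bu * nv),
    g * x * S * (bu * bv), hyi, ?_, ?_, ?_, fun c => ?_⟩
  · exact mul_ne_zero (mul_ne_zero (mul_ne_zero hg hx) hS0)
      (mul_ne_zero (nonZeroDivisors.ne_zero hbu) (nonZeroDivisors.ne_zero hbv))
  · exact ⟨S * (bu * bv), by ring⟩
  · rw [map_mul (Polynomial.C) (g * x * S)]
    linear_combination (Polynomial.C (g * x * S)) * hid
  · obtain ⟨k, hk⟩ := ht c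
    refine ⟨k + 1, ?_⟩
    have h1 : (g * x * S * (bu * bv)) ^ (k + 1) • c =
        ((x * S * (bu * bv)) ^ k * (g * x * (bu * bv))) • (S • (g ^ k • c)) := by
      rw [smul_smul, smul_smul]
      congr 1
      ring
    rw [h1]
    exact Subalgebra.smul_mem _ (hS _ hk) _

end Prim

end Groth.Agent.Etdl.H437.ModelGen
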