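import Groth.Agent.Sga4h.LocCohLES
import Groth.Agent.EtpbcA.LAUnit
import Groth.Agent.Sga4B.SuppFun

/-!
# Base change of local cohomology sheaves concentrated in one degree

If `ℋ^q_Y(F) = 0` for `q ≠ 2c` (`c > 0`) and the formation of `R^q j_* j^* F` commutes with base change along
`p : X ⟶ V`, then the same holds on `X` for `p^* F`, and `ℋ^{2c}(p^* F) ≅ p^* ℋ^{2c}(F)`.
-/

set_option autoImplicit false
universe u
open CategoryTheory CategoryTheory.Limits AlgebraicGeometry Opposite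

namespace Groth.Agent.Etdl.H437.PureBC

open EtCoh Groth.Agent.Sga4h.LocCohLES

variable {V X U₀ U : Scheme.{u}} (p : X ⟶ V) (j₀ : U₀ ⟶ V) [IsOpenImmersion j₀] (j : U ⟶ X)
  [IsOpenImmersion j] (g' : U ⟶ U₀) (w : g' ≫ j₀ = j ≫ p) (F : Ab V)

/-- The base change hypothesis for `R^q j_* j^* F` along `p`. -/
def BC : Prop :=
  (∀ q : ℕ, Nonempty ((pull p).obj ((Rpush j₀ q).obj ((pull j₀).obj F)) ≅
    (Rpush j q).obj ((pull g').obj ((pull j₀).obj F)))) ∧
  IsIso (baseChange0 j₀ p j g' w ((pull j₀).obj F))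

variable {p j₀ j g' w F}

theorem BC.locCohIso (h : BC p j₀ j g' w F) (n : ℕ) :
    Nonempty ((EtDual.locCoh j (n + 2)).obj ((pull p).obj F) ≅
      (pull p).obj ((EtDual.locCoh j₀ (n + 2)).obj F)) := by
  obtain ⟨e⟩ := h.1 (n + 1)
  exact ⟨(locCohSuccIso j ((pull p).obj F) n).symm ≪≫
    (Rpush j (n + 1)).mapIso ((Groth.Agent.EtpbcA.LA.kap w).app F) ≪≫ e.symm ≪≫
    (pull p).mapIso (locCohSuccIso j₀ F n)⟩

omit [IsOpenImmersion j₀] [IsOpenImmersion j] in
theorem BC.isIso_unit (h : BC p j₀ j g' w F) (h0 : IsIso ((pullPushAdj j₀).unit.app F)) :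
    IsIso ((pullPushAdj j).unit.app ((pull p).obj F)) := by
  have h1 := h.2
  have h2 := Groth.Agent.EtpbcA.LA.pull_unit_baseChange0 w F
  have h3 : IsIso ((pull p).map ((pullPushAdj j₀).unit.app F) ≫
      baseChange0 j₀ p j g' w ((pull j₀).obj F)) := inferInstance
  rw [h2] at h3
  exact IsIso.of_isIso_comp_right ((pullPushAdj j).unit.app ((pull p).obj F))
    ((push j).map ((Groth.Agent.EtpbcA.LA.kap w).hom.app F))

/-- Base change of local cohomology sheaves. -/
theorem BC.pure (h : BC p j₀ j g' w F) {c : ℕ} (hc : 0 < c)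
    (hz : ∀ q, q ≠ 2 * c → IsZero ((EtDual.locCoh j₀ q).obj F)) :
    (∀ q, q ≠ 2 * c → IsZero ((EtDual.locCoh j q).obj ((pull p).obj F))) ∧
      Nonempty ((EtDual.locCoh j (2 * c)).obj ((pull p).obj F) ≅
        (pull p).obj ((EtDual.locCoh j₀ (2 * c)).obj F)) := by
  have h0 : IsIso ((pullPushAdj j₀).unit.app F) :=
    Groth.Agent.Sga4B.SuppFun.isIso_unit j₀ F (hz 0 (by omega)) (hz 1 (by omega))
  have h1 := h.isIso_unit h0
  refine ⟨fun q hq => ?_, ?_⟩
  · match q, hq with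
    | 0, _ =>
      rw [isZero_locCoh_zero_iff]
      exact inferInstanceAs (Mono ((pullPushAdj j).unit.app ((pull p).obj F)))
    | 1, _ =>
      rw [isZero_locCoh_one_iff]
      exact inferInstanceAs (Epi ((pullPushAdj j).unit.app ((pull p).obj F)))
    | n + 2, hq =>
      obtain ⟨e⟩ := h.locCohIso n
      exact ((pull p).map_isZero (hz (n + 2) hq)).of_iso e
  · obtain ⟨n, hn⟩ : ∃ n, 2 * c = n + 2 := ⟨2 * c - 2, by omega⟩
    rw [hn]
    exact h.locCohIso n

end Groth.Agent.Etdl.H437.PureBC
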